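import Mathlib.GroupTheory.PGroup
import Mathlib.GroupTheory.GroupAction.ConjAct
set_option linter.all false

/-!
# A nontrivial normal subgroup of a finite p-group meets the centre (helper777; proof as in H790.TriCrit)
-/

set_option autoImplicit false

namespace Cfsg.Agent.H777.PGrp

open Subgroup

theorem inf_center_ne_bot {P : Type*} [Group P] [Finite P] {p : ℕ} [Fact p.Prime] (hP : IsPGroup p P) {N : Subgroup P}
    (hN : N ≠ ⊥) (hn : N.Normal) : ∃ b ∈ N, b ≠ 1 ∧ ∀ g : P, g * b = b * g := by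
  have hNp : IsPGroup p N := hP.to_subgroup N
  have hnt : Nontrivial N := (Subgroup.nontrivial_iff_ne_bot N).2 hN
  have hdvd : p ∣ Nat.card N := by
    obtain ⟨n, hn⟩ := IsPGroup.iff_card.1 hNp
    rw [hn]
    refine dvd_pow_self p fun h0 => ?_
    rw [h0, pow_zero] at hn
    exact not_subsingleton N (Nat.card_eq_one_iff_unique.1 hn).1
  have hC : IsPGroup p (ConjAct P) := hP.of_equiv ConjAct.toConjAct
  have h1 : (1 : N) ∈ MulAction.fixedPoints (ConjAct P) N := fun g => by
    rw [smul_one]
  obtain ⟨b, hb, hne⟩ := hC.exists_fixed_point_of_prime_dvd_card_of_fixed_point N hdvd h1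
  refine ⟨b, b.2, fun h => hne (Subtype.ext h.symm), fun g => ?_⟩
  have h3 : (ConjAct.toConjAct g • b : N) = b := hb _
  have h4 : g * (b : P) * g⁻¹ = b := congrArg Subtype.val h3
  rw [mul_inv_eq_iff_eq_mul] at h4
  exact h4

end Cfsg.Agent.H777.PGrp
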